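import Cfsg.Agent.H63.GvDefs
import Cfsg.Agent.H16.IvSk
import Cfsg.Agent.H58.CyY

/-! Project CY, route GV, piece MK. -/

set_option autoImplicit false

namespace Cfsg.Agent.H25.CyMk

open Subgroup MulAction Cfsg.Agent.H11.Cy Cfsg.Agent.H45.Iv Cfsg.Agent.H63.Gv
open Cfsg.Agent.H16.IvSk
open scoped commutatorElement

variable {G : Type} [Group G] {Ω : Type} [MulAction G Ω] {p : ℕ} {A : Ω → Subgroup G}

/-- the translate `g Ψ` -/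
def tl (g : G) (Ψ : Set Ω) : Set Ω := {w | g⁻¹ • w ∈ Ψ}

theorem mem_tl {g : G} {Ψ : Set Ω} {w : Ω} : w ∈ tl g Ψ ↔ g⁻¹ • w ∈ Ψ := Iff.rfl

theorem tl_tl (g : G) (Ψ : Set Ω) : tl g (tl g⁻¹ Ψ) = Ψ := by
  ext w; simp [mem_tl]

theorem tl_tl' (g : G) (Ψ : Set Ω) : tl g⁻¹ (tl g Ψ) = Ψ := by
  ext w; simp [mem_tl]

theorem sub_tl (h : St p A) (g : G) {Ψ : Set Ω} (s : Sub A Ψ) : Sub A (tl g Ψ) := by
  intro x hx y hy n w hw
  refine s _ hx _ hy (fun e => n (smul_left_cancel _ e)) ?_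
  show A (g⁻¹ • w) ≤ Fl A (g⁻¹ • x) (g⁻¹ • y)
  rw [A_smul h, Fl_smul h]
  exact map_mono hw

theorem ms_tl (h : St p A) (g : G) (Ψ : Set Ω) :
    (Ms A Ψ).map (MulAut.conj g).toMonoidHom ≤ Ms A (tl g Ψ) := by
  rw [map_le_iff_le_comap, H58.CyY.ms_le]
  intro w hw
  rw [← map_le_iff_le_comap, ← A_smul h]
  exact A_le (by rw [mem_tl, inv_smul_smul]; exact hw)

theorem ts_tl (h : St p A) (g : G) {Ψ : Set Ω} {z : G} (hz : z ∈ Ts A Ψ) :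
    g * z * g⁻¹ ∈ Ts A (tl g Ψ) := by
  have : (Ts A Ψ).map (MulAut.conj g).toMonoidHom ≤ Ts A (tl g Ψ) := by
    rw [Ts, map_commutator]
    exact commutator_mono (ms_tl h g Ψ) (ms_tl h g Ψ)
  exact this ⟨z, hz, rfl⟩

theorem cs_tl (h : St p A) (g : G) {Ψ : Set Ω} {z : G} (hz : z ∈ Cs A Ψ) :
    g * z * g⁻¹ ∈ Cs A (tl g Ψ) := by
  rw [mem_Cs] at hz ⊢
  intro w hw
  have := cen_conj g (hz _ hw)
  rwa [← A_smul h, smul_inv_smul] at this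

theorem mx_tl (h : St p A) {g : G} {P Ψ : Set Ω} (hg : ∀ w, g • w ∈ P ↔ w ∈ P) (m : Mx A P Ψ) :
    Mx A P (tl g Ψ) := by
  have e : tl g P = P := by
    ext w; rw [mem_tl, ← hg, smul_inv_smul]
  have e' : tl g⁻¹ P = P := by
    ext w; rw [mem_tl, inv_inv, hg]
  refine ⟨sub_tl h g m.1, fun w hw => e ▸ (m.2.1 hw : w ∈ tl g P), fun c => m.2.2.1 ?_,
    fun Φ s l1 l2 => ?_⟩
  · rw [← tl_tl' g Ψ, c, e']
  · rcases m.2.2.2 (tl g⁻¹ Φ) (sub_tl h _ s)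
      (fun w hw => l1 (by rw [mem_tl, inv_inv, inv_smul_smul]; exact hw))
      (fun w hw => (hg w).1 (l2 (by rwa [mem_tl, inv_inv] at hw))) with c | c
    · left; rw [← c, tl_tl]
    · right; rw [← tl_tl g Φ, c, e]

theorem mk : MkStmt := by
  intro G _ _ Ω _ _ p A h c P ⟨sP, bad, _⟩
  have k := c.sk
  refine ⟨fun Φ s l n => ?_, fun Ψ s g t ht t2 => ?_,
    fun Φ Ψ l => ⟨H58.CyY.ms_mono l, H58.CyY.ts_mono l, H58.CyY.cs_anti l⟩,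
    fun Ψ => H58.CyY.ts_le, fun Ψ m z hz hz' w hw => ⟨fun e => ?_, k.csfix Ψ z hz.2 w⟩,
    fun Ψ₁ Ψ₂ m1 m2 n z hz h2 => H58.CyY.ee sP m1 m2 n hz.2 h2, fun g hg Ψ m z hz hz' => ?_, ?_⟩
  · obtain ⟨Ψ, ⟨s1, s2, s3, s4⟩, mx⟩ := (Set.toFinite
      {Ψ | Sub A Ψ ∧ Φ ⊆ Ψ ∧ Ψ ⊆ P ∧ Ψ ≠ P}).exists_maximal ⟨Φ, s, subset_rfl, l, n⟩
    refine ⟨Ψ, ⟨s1, s3, s4, fun Φ' t1 t2 t3 => ?_⟩, s2⟩
    by_cases e : Φ' = P
    · exact .inr e
    · exact .inl (Set.Subset.antisymm (mx ⟨t1, s2.trans t2, t3, e⟩ t2) t2)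
  · by_contra hn
    obtain ⟨d, hd⟩ : Ψ.Nonempty := by
      by_contra e
      exact hn ((k.cs Ψ t).2 fun w hw => (e ⟨w, hw⟩).elim)
    obtain ⟨y, hy, n, r, hr, hr', q, hq, rfl⟩ := (c.ga Ψ s g d hd).lin t ht hn
    have q2 := c.gb Ψ s g ⟨d, hd⟩ q hq
    have cm := H58.CyY.cs_comm hq.2 (H58.CyY.ts_le ((k.fle Ψ d hd y hy).2 hr))
    refine (c.an d y n.symm).1 r hr hr' ?_
    calc r * r = r * r * (q * q) := by rw [q2, mul_one]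
      _ = r * (r * q) * q := by group
      _ = r * (q * r) * q := by rw [cm]
      _ = r * q * (r * q) := by group
      _ = 1 := t2
  · obtain ⟨d, hd⟩ : Ψ.Nonempty := by
      by_contra e
      have : Ms A Ψ ≤ ⊥ := H58.CyY.ms_le.2 fun w hw => (e ⟨w, hw⟩).elim
      exact hz' (by rw [mem_bot.1 (this (H58.CyY.ts_le hz.1))]; exact one_mem _)
    by_cases n : d = w
    · exact n ▸ hd
    refine (H58.CyY.cen_iff sP m hz.2 hz').2 ⟨hw, fun a ha => mem_centralizer_singleton_iff.2 ?_⟩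
    exact mem_centralizer_iff.1
      (c.ep.eps d w n z ⟨k.csfix Ψ z hz.2 d hd, e⟩ ((k.cs Ψ z).1 hz.2 d hd)) a (mem_sup_right ha)
  · have hg' := H58.CyY.ms_sb k sP hg
    refine ⟨tl g Ψ, mx_tl h hg' m, ⟨ts_tl h g hz.1, cs_tl h g hz.2⟩, fun e => hz' ?_⟩
    simpa [mul_assoc] using (k.nrm P g⁻¹ (inv_mem hg')).2.2 _ e
  · by_contra hn
    refine bad fun x hx y hy n z hz w hw => k.csfix P z ?_ w hw
    by_contra e
    exact hn ⟨x, hx, y, hy, n, z, hz, e⟩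

end Cfsg.Agent.H25.CyMk
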