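import Cfsg.Agent.H78.G40B

/-! Project L40G, piece CZ1B. -/

set_option autoImplicit false
set_option linter.unusedSectionVars false
set_option linter.unusedVariables false

namespace Cfsg.Agent.H25.G40Cz1b

open Subgroup Cfsg.Agent.H83 Cfsg.Agent.H46.L40 Cfsg.Agent.H78.G40

universe u

local notation "C[" A "]" => Subgroup.centralizer (SetLike.coe A)
local notation "N[" A "]" => Subgroup.normalizer (SetLike.coe A)

theorem four {K : Type u} [Group K] (A : Subgroup K) (h4 : Nat.card A = 4) (κ ξ : MulAut K)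
    (hk : ∀ y ∈ A, κ y ∈ A) (hx : ∀ y ∈ A, ξ y ∈ A) (k3 : ∀ y, κ (κ (κ y)) = y)
    (f : ∀ y ∈ A, κ y = y → y = 1) : ∃ i : ℕ, ∀ y ∈ A, ((κ ^ i * ξ) ^ 2) y = y := by
  have hb : A ≠ ⊥ := fun h => by rw [h, card_bot] at h4; omega
  obtain ⟨y0, m0, n0⟩ := (A.bot_or_exists_ne_one).resolve_left hb
  have m1 := hk _ m0
  have m2 := hk _ m1
  have ne1 : ∀ (η : MulAut K) {y : K}, y ≠ 1 → η y ≠ 1 := fun η y h e =>
    h (η.injective (e.trans (map_one η).symm))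
  have n1 := ne1 κ n0
  have n2 := ne1 κ n1
  have d1 : κ y0 ≠ y0 := fun e => n0 (f _ m0 e)
  have d2 : κ (κ y0) ≠ κ y0 := fun e => n1 (f _ m1 e)
  have d3 : y0 ≠ κ (κ y0) := fun e => n2 (f _ m2 ((k3 y0).trans e))
  have en : ∀ y ∈ A, y = 1 ∨ y = y0 ∨ y = κ y0 ∨ y = κ (κ y0) := by
    have hs : ({1, y0, κ y0, κ (κ y0)} : Set K) ⊆ A := by
      rintro y (rfl | rfl | rfl | rfl)
      exacts [one_mem _, m0, m1, m2]
    have hA : (A : Set K).ncard = 4 := h4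
    have hc : ({1, y0, κ y0, κ (κ y0)} : Set K).ncard = 4 := by
      rw [Set.ncard_insert_of_notMem (by simp [n0.symm, n1.symm, n2.symm]),
        Set.ncard_insert_of_notMem (by simp [d1.symm, d3]),
        Set.ncard_insert_of_notMem (by simp [d2.symm]), Set.ncard_singleton]
    have := Set.eq_of_subset_of_ncard_le hs (by rw [hA, hc])
      (Set.finite_of_ncard_ne_zero (by rw [hA]; norm_num))
    intro y hy
    have h : y ∈ ({1, y0, κ y0, κ (κ y0)} : Set K) := this ▸ hy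
    simpa using h
  have aux : ∀ η : MulAut K, (∀ y ∈ A, η y ∈ A) → η y0 = y0 → ∀ y ∈ A, (η ^ 2) y = y := by
    intro η hη e0 y hy
    have a1 : η (κ y0) = κ y0 ∨ η (κ y0) = κ (κ y0) := by
      rcases en _ (hη _ m1) with e | e | e
      · exact absurd e (ne1 η n1)
      · exact absurd (η.injective (e.trans e0.symm)) d1
      · exact e
    have a2 : η (κ (κ y0)) = κ y0 ∨ η (κ (κ y0)) = κ (κ y0) := by
      rcases en _ (hη _ m2) with e | e | e
      · exact absurd e (ne1 η n2)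
      · exact absurd (η.injective (e.trans e0.symm)) d3.symm
      · exact e
    have a3 : η (η (κ y0)) = κ y0 ∧ η (η (κ (κ y0))) = κ (κ y0) := by
      rcases a1 with a | a <;> rcases a2 with b | b
      · exact absurd (η.injective (b.trans a.symm)) d2
      · exact ⟨by rw [a, a], by rw [b, b]⟩
      · exact ⟨by rw [a, b], by rw [b, a]⟩
      · exact absurd (η.injective (b.trans a.symm)) d2
    rw [pow_two, MulAut.mul_apply]
    rcases en y hy with rfl | rfl | rfl | rfl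
    · simp
    · rw [e0, e0]
    · exact a3.1
    · exact a3.2
  rcases en _ (hx _ m0) with e | e | e | e
  · exact absurd e (ne1 ξ n0)
  · exact ⟨0, aux _ (by simpa using hx) (by simpa using e)⟩
  · refine ⟨2, aux _ (fun y hy => ?_) ?_⟩
    · rw [pow_two, MulAut.mul_apply, MulAut.mul_apply]; exact hk _ (hk _ (hx _ hy))
    · rw [pow_two, MulAut.mul_apply, MulAut.mul_apply, e, k3]
  · refine ⟨1, aux _ (fun y hy => ?_) ?_⟩
    · rw [pow_one, MulAut.mul_apply]; exact hk _ (hx _ hy)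
    · rw [pow_one, MulAut.mul_apply, e, k3]

section
variable {G : Type u} [Group G]

/-- `x` centralizes `y` modulo `z` -/
def Tv (z x y : G) : Prop := x * y * x⁻¹ = y ∨ x * y * x⁻¹ = z * y

theorem mz_iff (z x y : G) : Mz z (x * y * x⁻¹ * y⁻¹) ↔ Tv z x y :=
  or_congr mul_inv_eq_one mul_inv_eq_iff_eq_mul

theorem fourz [Finite G] (H A : Subgroup G) (AH : A ≤ H) (hN : H ≤ N[A]) (z : G) (zA : z ∈ A)
    (Hz : ∀ x ∈ H, x * z = z * x) (zz : z * z = 1) (z1 : z ≠ 1) (c8 : Nat.card A = 8)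
    (k : G) (kH : k ∈ H) (k3 : k ^ 3 = 1) (f : ∀ y ∈ A, Tv z k y → Mz z y) (x : G) (xH : x ∈ H) :
    ∃ i : ℕ, ∀ y ∈ A, Tv z ((k ^ i * x) ^ 2) y := by
  let Z : Subgroup H :=
    { carrier := {w | (w : G) = 1 ∨ (w : G) = z}
      one_mem' := Or.inl rfl
      mul_mem' := by
        rintro a b (ha | ha) (hb | hb) <;>
          change (a : G) * b = 1 ∨ (a : G) * b = z <;> rw [ha, hb] <;> simp [zz]
      inv_mem' := by
        rintro a (ha | ha)
        · left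
          rw [coe_inv, ha, inv_one]
        · right
          rw [coe_inv, ha]
          exact inv_eq_of_mul_eq_one_right zz }
  have hZ : ∀ w : H, w ∈ Z ↔ (w : G) = 1 ∨ (w : G) = z := fun _ => Iff.rfl
  haveI : Z.Normal := ⟨fun a ha g => by
    rcases (hZ a).1 ha with h | h
    · left; simp [h]
    · right
      rw [coe_mul, coe_mul, coe_inv, h, Hz _ g.2, mul_inv_cancel_right]⟩
  let π := QuotientGroup.mk' Z
  have key : ∀ a b : H, π a = π b ↔ ((a : G) = b ∨ (a : G) = z * b) := fun a b => by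
    rw [QuotientGroup.mk'_apply, QuotientGroup.mk'_apply, QuotientGroup.eq_iff_div_mem, hZ,
      coe_div, div_eq_one, div_eq_iff_eq_mul]
  have cZ : Nat.card Z = 2 := by
    rw [Nat.card_eq_two_iff' (1 : Z)]
    refine ⟨⟨⟨z, AH zA⟩, Or.inr rfl⟩, fun e => z1 (congrArg (fun w : Z => ((w : H) : G)) e), ?_⟩
    rintro ⟨w, hw | hw⟩ h
    · exact absurd (Subtype.ext (Subtype.ext hw)) h
    · exact Subtype.ext (Subtype.ext hw)
  have ZA : Z ≤ A.subgroupOf H := by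
    rintro w (hw | hw) <;> rw [mem_subgroupOf, hw]
    exacts [one_mem _, zA]
  have c4 : Nat.card ((A.subgroupOf H).map π) = 4 := by
    have h1 := (π.ker.subgroupOf (A.subgroupOf H)).card_mul_index
    have h2 : (π.ker.subgroupOf (A.subgroupOf H)).index = _ := relIndex_ker (A.subgroupOf H) π
    rw [h2, QuotientGroup.ker_mk', Nat.card_congr (subgroupOfEquivOfLe ZA).toEquiv, cZ,
      Nat.card_congr (subgroupOfEquivOfLe AH).toEquiv, c8] at h1
    omega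
  have inv : ∀ g : H, ∀ y ∈ (A.subgroupOf H).map π, MulAut.conj (π g) y ∈ (A.subgroupOf H).map π := by
    rintro g _ ⟨y, hy, rfl⟩
    exact ⟨g * y * g⁻¹, (mem_normalizer_iff.1 (hN g.2) _).1 hy, by simp⟩
  obtain ⟨i, hi⟩ := four _ c4 (MulAut.conj (π ⟨k, kH⟩)) (MulAut.conj (π ⟨x, xH⟩)) (inv _) (inv _)
    (fun y => by
      have : (⟨k, kH⟩ : H) ^ 3 = 1 := Subtype.ext k3
      rw [← MulAut.mul_apply, ← MulAut.mul_apply, ← pow_three', ← map_pow, ← map_pow, this,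
        map_one, map_one, MulAut.one_apply])
    (by
      rintro _ ⟨y, hy, rfl⟩ h
      rw [MulAut.conj_apply, ← map_inv, ← map_mul, ← map_mul, key] at h
      rw [← map_one π, key, coe_one, mul_one]
      exact f _ hy h)
  refine ⟨i, fun y hy => ?_⟩
  have h := hi (π ⟨y, AH hy⟩) ⟨_, hy, rfl⟩
  rw [← map_pow, ← map_mul, ← map_pow, ← map_pow, ← map_mul, ← map_pow, MulAut.conj_apply,
    ← map_inv, ← map_mul, ← map_mul, key] at h
  exact h

/-- elements acting trivially modulo `z` -/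
def DD (z : G) (zz : z * z = 1) (Y : Subgroup G) : Subgroup G where
  carrier := {x | x * z = z * x ∧ ∀ y ∈ Y, Tv z x y}
  one_mem' := ⟨by simp, fun y _ => Or.inl (by simp)⟩
  mul_mem' := by
    rintro a b ⟨ha, ha'⟩ ⟨hb, hb'⟩
    refine ⟨by rw [mul_assoc, hb, ← mul_assoc, ha, mul_assoc], fun y hy => ?_⟩
    have e : a * b * y * (a * b)⁻¹ = a * (b * y * b⁻¹) * a⁻¹ := by group
    have e2 : a * (z * y) * a⁻¹ = z * (a * y * a⁻¹) := by
      rw [← mul_assoc, ha]; group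
    rw [Tv, e]
    rcases hb' y hy with h | h <;> rw [h]
    · exact ha' y hy
    · rw [e2]
      rcases ha' y hy with h' | h' <;> rw [h']
      · exact Or.inr rfl
      · left; rw [← mul_assoc, zz, one_mul]
  inv_mem' := by
    rintro a ⟨ha, ha'⟩
    have hi : a⁻¹ * z = z * a⁻¹ := (Commute.inv_left ha)
    refine ⟨hi, fun y hy => ?_⟩
    rcases ha' y hy with h | h
    · left
      conv_lhs => rw [← h]
      group
    · right
      have : y = z * (a * y * a⁻¹) := by rw [h, ← mul_assoc, zz, one_mul]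
      have h2 : a⁻¹ * (z * y) * a⁻¹⁻¹ = y := by rw [← h]; group
      rw [← mul_assoc, hi] at h2
      have h3 : z * (z * a⁻¹ * y * a⁻¹⁻¹) = a⁻¹ * y * a⁻¹⁻¹ := by
        rw [← mul_assoc, ← mul_assoc, ← mul_assoc, zz, one_mul]
      rw [← h3, h2]

/-- elements centralized modulo `z` -/
def EE (z : G) (zz : z * z = 1) (x : G) : Subgroup G where
  carrier := {y | y * z = z * y ∧ Tv z x y}
  one_mem' := ⟨by simp, Or.inl (by simp)⟩
  mul_mem' := by
    rintro a b ⟨ha, ha'⟩ ⟨hb, hb'⟩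
    refine ⟨by rw [mul_assoc, hb, ← mul_assoc, ha, mul_assoc], ?_⟩
    have e : x * (a * b) * x⁻¹ = (x * a * x⁻¹) * (x * b * x⁻¹) := by group
    rw [Tv, e]
    rcases ha' with h | h <;> rcases hb' with h' | h' <;> rw [h, h']
    · exact Or.inl rfl
    · right; rw [← mul_assoc, ha, mul_assoc]
    · right; rw [mul_assoc]
    · left; rw [mul_assoc, ← mul_assoc a, ha, ← mul_assoc, ← mul_assoc, zz, one_mul]
  inv_mem' := by
    rintro a ⟨ha, ha'⟩
    have hi : a⁻¹ * z = z * a⁻¹ := (Commute.inv_left ha)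
    refine ⟨hi, ?_⟩
    have e : x * a⁻¹ * x⁻¹ = (x * a * x⁻¹)⁻¹ := by group
    rw [Tv, e]
    rcases ha' with h | h <;> rw [h]
    · exact Or.inl rfl
    · right; rw [mul_inv_rev, inv_eq_of_mul_eq_one_right zz, hi]

theorem mem_cop {P : Subgroup G} {x : G} {m n : ℕ} (h : Nat.Coprime m n) (hm : x ^ m ∈ P)
    (hn : x ^ n ∈ P) : x ∈ P := by
  have h1 := Nat.gcd_eq_gcd_ab m n
  rw [h.gcd_eq_one] at h1
  have : x = (x ^ m) ^ (Nat.gcdA m n) * (x ^ n) ^ (Nat.gcdB m n) := by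
    rw [← zpow_natCast, ← zpow_natCast, ← zpow_mul, ← zpow_mul, ← zpow_add, ← h1]; simp
  rw [this]
  exact mul_mem (zpow_mem hm _) (zpow_mem hn _)

theorem parts [Finite G] (x : G) : ∃ a m : ℕ, Odd m ∧ (x ^ m) ^ 2 ^ a = 1 ∧ (x ^ 2 ^ a) ^ m = 1 := by
  obtain ⟨a, m, hm, e⟩ := Nat.exists_eq_two_pow_mul_odd (orderOf_pos x).ne'
  exact ⟨a, m, hm, by rw [← pow_mul, mul_comm, ← e, pow_orderOf_eq_one],
    by rw [← pow_mul, ← e, pow_orderOf_eq_one]⟩

theorem odd_of_pow {x : G} {m : ℕ} (hm : Odd m) (h : x ^ m = 1) : Odd (orderOf x) :=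
  hm.of_dvd_nat (orderOf_dvd_of_pow_eq_one h)

theorem core [Finite G] (z k1 k2 : G) (H A B P : Subgroup G) (zz : z * z = 1) (z1 : z ≠ 1)
    (Hz : ∀ x ∈ H, x * z = z * x) (syl : IsSylowIn 2 (A ⊔ B) H) (hA : H ≤ N[A]) (hB : H ≤ N[B])
    (hQ : H ≤ N[(A ⊔ B : Subgroup G)])
    (cA : Nat.card A = 8) (cB : Nat.card B = 8) (zA : z ∈ A) (zB : z ∈ B)
    (cm : ∀ x ∈ A ⊔ B, ∀ y ∈ A ⊔ B, Tv z x y) (k1H : k1 ∈ H) (k2H : k2 ∈ H) (k13 : k1 ^ 3 = 1)
    (k23 : k2 ^ 3 = 1) (k2A : k2 ∈ C[A]) (f1 : ∀ y ∈ A, Tv z k1 y → Mz z y)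
    (f2 : ∀ y ∈ B, Tv z k2 y → Mz z y) (QP : A ⊔ B ≤ P) (k1P : k1 ∈ P) (k2P : k2 ∈ P)
    (hI : ∀ x ∈ H, Odd (orderOf x) → x ∈ C[(A ⊔ B : Subgroup G)] → x ∈ P) : H ≤ P := by
  intro x xH
  have sq : ∀ Y ≤ A ⊔ B, ∀ w ∈ H, (∀ y ∈ Y, Tv z (w ^ 2) y) → w ∈ DD z zz Y := by
    intro Y hY w wH h
    obtain ⟨a, m, hm, h1, -⟩ := parts w
    have h2 := syl.mem_of_norm (pow_mem wH m) h1 (hQ (pow_mem wH m))
    exact mem_cop (Nat.coprime_two_left.2 hm) ⟨Hz _ (pow_mem wH 2), h⟩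
      ⟨Hz _ (pow_mem wH m), fun y hy => cm _ h2 y (hY hy)⟩
  obtain ⟨i, hi⟩ := fourz H A (le_sup_left.trans syl.le) hA z zA Hz zz z1 cA k1 k1H k13 f1 x xH
  have x1H : k1 ^ i * x ∈ H := mul_mem (pow_mem k1H i) xH
  obtain ⟨j, hj⟩ := fourz H B (le_sup_right.trans syl.le) hB z zB Hz zz z1 cB k2 k2H k23 f2 _ x1H
  have x2H : k2 ^ j * (k1 ^ i * x) ∈ H := mul_mem (pow_mem k2H j) x1H
  have dA : k2 ^ j * (k1 ^ i * x) ∈ DD z zz A :=
    mul_mem (pow_mem (show k2 ∈ DD z zz A from ⟨Hz _ k2H, fun y hy => Or.inl (by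
      rw [← mem_centralizer_iff.1 k2A y hy, mul_inv_cancel_right])⟩) j) (sq A le_sup_left _ x1H hi)
  have dB := sq B le_sup_right _ x2H hj
  generalize hw : k2 ^ j * (k1 ^ i * x) = w at x2H dA dB
  have dQ : w ∈ DD z zz (A ⊔ B) := ⟨dA.1, fun y hy => by
    have : A ⊔ B ≤ EE z zz w := sup_le
      (fun y hy => ⟨Hz _ (syl.le (mem_sup_left hy)), dA.2 y hy⟩)
      (fun y hy => ⟨Hz _ (syl.le (mem_sup_right hy)), dB.2 y hy⟩)
    exact (this hy).2⟩
  have wP : w ∈ P := by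
    obtain ⟨a, m, hm, h1, h2⟩ := parts w
    refine mem_cop (Nat.Coprime.pow_left a (Nat.coprime_two_left.2 hm)) ?_
      (QP (syl.mem_of_norm (pow_mem x2H m) h1 (hQ (pow_mem x2H m))))
    have d := pow_mem dQ (2 ^ a)
    refine hI _ (pow_mem x2H _) (odd_of_pow hm h2) ?_
    generalize w ^ 2 ^ a = v at d h2
    refine mem_cop (Nat.coprime_two_left.2 hm) ?_ (h2 ▸ one_mem _)
    refine mem_centralizer_iff.2 fun y hy => ?_
    rw [eq_comm, ← mul_inv_eq_iff_eq_mul]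
    have e : v ^ 2 * y * (v ^ 2)⁻¹ = v * (v * y * v⁻¹) * v⁻¹ := by rw [pow_two]; group
    rw [e]
    rcases d.2 y hy with h | h
    · rw [h, h]
    · rw [h, ← mul_assoc, d.1, mul_assoc z, mul_assoc z, h, ← mul_assoc, zz, one_mul]
  have : x = (k1 ^ i)⁻¹ * ((k2 ^ j)⁻¹ * w) := by rw [← hw]; group
  rw [this]
  exact mul_mem (inv_mem (pow_mem k1P i)) (mul_mem (inv_mem (pow_mem k2P j)) wP)

theorem oddK {K : Type u} [Group K] [Finite K]
    (h : ∀ (u : K) (n : ℕ), u ^ 2 ^ n = 1 → ∀ g, u * g = g * u) :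
    ∃ I : Subgroup K, Odd (Nat.card I) ∧ ∀ x, Odd (orderOf x) → x ∈ I := by
  haveI : Fact (Nat.Prime 2) := ⟨Nat.prime_two⟩
  let P : Sylow 2 K := default
  have hP : N[(P : Subgroup K)] ≤ C[(P : Subgroup K)] := fun g _ =>
    mem_centralizer_iff.2 fun u hu => by
      obtain ⟨n, hn⟩ := P.isPGroup' ⟨u, hu⟩
      exact h u n (congrArg Subtype.val hn) g
  refine ⟨(MonoidHom.transferSylow P hP).ker, ?_, fun x hx => ?_⟩
  · exact Nat.odd_iff.2 (Nat.two_dvd_ne_zero.1 (MonoidHom.not_dvd_card_ker_transferSylow P hP))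
  · obtain ⟨n, hn⟩ := P.isPGroup' (MonoidHom.transferSylow P hP x)
    have h1 : MonoidHom.transferSylow P hP x ^ orderOf x = 1 := by
      rw [← map_pow, pow_orderOf_eq_one, map_one]
    exact mem_bot.1 (mem_cop (P := ⊥) (Nat.Coprime.pow_left n (Nat.coprime_two_left.2 hx)) hn h1)

theorem oddI [Finite G] (H Q : Subgroup G) (syl : IsSylowIn 2 Q H) (hQ : H ≤ N[Q]) :
    ∃ I : Subgroup G, Odd (Nat.card I) ∧ ∀ x, x ∈ I ↔ x ∈ H ∧ Odd (orderOf x) ∧ x ∈ C[Q] := by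
  obtain ⟨I, h1, h2⟩ := oddK (K := (H ⊓ C[Q] : Subgroup G)) fun u n hu g => Subtype.ext
    (mem_centralizer_iff.1 g.2.2 u
      (syl.mem_of_norm u.2.1 (congrArg Subtype.val hu) (hQ u.2.1)))
  refine ⟨I.map (H ⊓ C[Q]).subtype, by rwa [card_map_of_injective (subtype_injective _)],
    fun x => ⟨?_, fun h => ⟨⟨x, h.1, h.2.2⟩, h2 _ (by rw [← orderOf_coe]; exact h.2.1), rfl⟩⟩⟩
  rintro ⟨y, hy, rfl⟩
  refine ⟨y.2.1, ?_, y.2.2⟩
  rw [coe_subtype, orderOf_coe]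
  exact h1.of_dvd_nat (orderOf_dvd_natCard I hy)

theorem conjO2 {H : Subgroup G} {g : G} (hg : ∀ x ∈ H, g * x * g⁻¹ ∈ H) :
    ∀ x ∈ O2 H, g * x * g⁻¹ ∈ O2 H := by
  have : O2 H ≤ (O2 H).comap (MulAut.conj g).toMonoidHom := (closure_le _).2 fun x hx =>
    subset_closure ⟨hg x hx.1, by
      have := hx.2
      rwa [← MulEquiv.orderOf_eq (MulAut.conj g) x] at this⟩
  exact fun x hx => this hx

theorem normI [Finite G] {H Q I : Subgroup G} (syl : IsSylowIn 2 Q (O2 H)) (hQ : O2 H ≤ N[Q])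
    (hI : ∀ x, x ∈ I ↔ x ∈ O2 H ∧ Odd (orderOf x) ∧ x ∈ C[Q]) {g : G} (hg : g ∈ N[H]) :
    g ∈ N[I] := by
  have a : ∀ g ∈ N[H], ∀ y ∈ Q, g * y * g⁻¹ ∈ Q := fun g hg y hy => by
    obtain ⟨n, hn⟩ := syl.isPGroup ⟨y, hy⟩
    have m := conjO2 (fun x hx => (mem_normalizer_iff.1 hg x).1 hx) y (syl.le hy)
    refine syl.mem_of_norm m (k := n) ?_ (hQ m)
    rw [conj_pow, show y ^ 2 ^ n = 1 from congrArg Subtype.val hn, mul_one, mul_inv_cancel]
  have b : ∀ g ∈ N[H], ∀ x ∈ I, g * x * g⁻¹ ∈ I := fun g hg x hx => by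
    obtain ⟨h1, h2, h3⟩ := (hI x).1 hx
    refine (hI _).2 ⟨conjO2 (fun x hx => (mem_normalizer_iff.1 hg x).1 hx) x h1, ?_,
      mem_centralizer_iff.2 fun y hy => ?_⟩
    · rwa [← MulEquiv.orderOf_eq (MulAut.conj g) x] at h2
    · have := mem_centralizer_iff.1 h3 _ (a _ (inv_mem hg) y hy)
      calc y * (g * x * g⁻¹) = g * (g⁻¹ * y * g⁻¹⁻¹ * x) * g⁻¹ := by group
        _ = _ := by rw [this]; group
  refine mem_normalizer_iff.2 fun x => ⟨b g hg x, fun h => ?_⟩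
  have := b _ (inv_mem hg) _ h
  rwa [show g⁻¹ * (g * x * g⁻¹) * g⁻¹⁻¹ = x by group] at this

end

theorem cz1b : Cz1bS.{u} := by
  intro odd4 X _ e σ τ θ D a c G _ _ S ψ T hV syl hN
  have hz : ψ (e z0) = S.z := T.he z0
  have zz : S.z * S.z = 1 := by
    rw [← map_mul, show z0 * z0 = 1 by decide, map_one]
  have z1 : S.z ≠ 1 := fun h => absurd (S.inj (h.trans (map_one _).symm)) (by decide)
  have hq : Qq e σ D = Qa e ⊔ Qb σ D := by
    rw [Qq, Qa, Qb, ← Subgroup.closure_union]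
    congr 1
    ext x
    simp only [Set.mem_insert_iff, Set.mem_union, Set.mem_singleton_iff, or_assoc]
  have hQ : (Qq e σ D).map ψ = (Qa e).map ψ ⊔ (Qb σ D).map ψ := by rw [hq, Subgroup.map_sup]
  have le0 : O2 (S.X ⊓ Cz S.z) ≤ S.X ⊓ Cz S.z := (closure_le _).2 fun x hx => hx.1
  have RP : ∀ x, ψ x ∈ S.R := fun x => T.rg ▸ ⟨x, rfl⟩
  have tv : ∀ x y, Tv S.z (ψ x) (ψ y) ↔ Mz (e z0) (x * y * x⁻¹ * y⁻¹) := fun x y => by
    rw [mz_iff, Tv, Tv, ← hz, ← map_inv, ← map_mul, ← map_mul, ← map_mul, T.inj.eq_iff,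
      T.inj.eq_iff]
  have mz : ∀ y, Mz (e z0) y → Mz S.z (ψ y) := fun y h =>
    h.imp (fun h => by rw [h, map_one]) fun h => by rw [h, hz]
  have k0 : ∀ k : X, k * e z0 = e z0 * k → k ^ 3 = 1 → ψ k ∈ O2 (S.X ⊓ Cz S.z) := fun k h1 h2 =>
    subset_closure ⟨⟨S.fn.le (RP k), mem_centralizer_singleton_iff.2 (by
      rw [← hz, ← map_mul, ← map_mul, h1])⟩,
      odd_of_pow (m := 3) (by decide) (by rw [← map_pow, h2, map_one])⟩
  have nQ : O2 (S.X ⊓ Cz S.z) ≤ N[((Qa e).map ψ ⊔ (Qb σ D).map ψ : Subgroup G)] :=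
    hN.trans (Subgroup.normalizer_inf_normalizer_le_normalizer_sup _ _)
  rw [hQ] at syl
  obtain ⟨I, o1, o2⟩ := oddI _ _ syl nQ
  have nH : ∀ g : G, g * S.z = S.z * g → g ∈ N[(S.X ⊓ Cz S.z : Subgroup G)] := fun g hg =>
    Subgroup.inf_normalizer_le_normalizer_inf ⟨by haveI := S.Xn; exact S.X.normalizer_eq_top ▸ mem_top g,
      le_normalizer (mem_centralizer_singleton_iff.2 hg)⟩
  have IP := odd4 G S hV I (fun x hx => (le0 ((o2 x).1 hx).1).1) o1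
    (normI syl nQ o2 (nH _ (S.tL z0)))
    (normI syl nQ o2 (nH _ (by rw [← map_mul, ← map_mul, show a0 * z0 = z0 * a0 by decide])))
    (fun x hx => (le0 ((o2 x).1 hx).1).2)
  refine core S.z (ψ (e x12)) (ψ D.k2) _ _ _ _ zz z1
    (fun x hx => mem_centralizer_singleton_iff.1 (le0 hx).2) syl (hN.trans inf_le_left)
    (hN.trans inf_le_right) nQ (by rw [card_map_of_injective T.inj, a.ca])
    (by rw [card_map_of_injective T.inj, a.cb]) ⟨_, a.za, hz⟩ ⟨_, a.zb, hz⟩ ?_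
    (k0 _ c.k1z c.k13) (k0 _ c.k2z c.k23) (by rw [← map_pow, c.k13, map_one])
    (by rw [← map_pow, c.k23, map_one]) ?_ ?_ ?_ ?_ (mem_sup_left (RP _)) (mem_sup_left (RP _))
    fun x h1 h2 h3 => IP ((o2 x).2 ⟨h1, h2, h3⟩)
  · rw [← hQ]
    rintro _ ⟨x, hx, rfl⟩ _ ⟨y, hy, rfl⟩
    exact (tv x y).2 (a.cm x hx y hy)
  · refine mem_centralizer_iff.2 ?_
    rintro _ ⟨y, hy, rfl⟩
    rw [← map_mul, ← map_mul, mem_centralizer_iff.1 c.k2a y hy]
  · rintro _ ⟨y, hy, rfl⟩ h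
    exact mz y (c.f1 y hy ((tv _ y).1 h))
  · rintro _ ⟨y, hy, rfl⟩ h
    exact mz y (c.f2 y hy ((tv _ y).1 h))
  · rw [← hQ]
    rintro _ ⟨y, hy, rfl⟩
    exact mem_sup_left (RP y)

end Cfsg.Agent.H25.G40Cz1b
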