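import Cfsg.Agent.H25.O7Top
import Cfsg.Agent.H49.O7Big
import Cfsg.Agent.H49.O7Real
import Cfsg.Agent.H8.O7T3
import Cfsg.Agent.H80.O7So3
import Cfsg.Agent.H76.O7Deg
import Cfsg.Agent.H30.O7Rk3a
import Cfsg.Agent.H21.O7Rk
import Cfsg.Agent.H82.O7Par
import Cfsg.Agent.H75.O7Lift
import Cfsg.Agent.H12.O7Ax
import Cfsg.Agent.H60.O7Fi5
import Cfsg.Agent.H72.O7Fisch
import Cfsg.Agent.H5.O7Ref
import Cfsg.Agent.H31.O7U3
import Cfsg.Agent.H77.O7D4
import Cfsg.Agent.H87.O7Ree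
import Cfsg.Agent.H30.O7L2a
import Cfsg.Agent.H70.O7Rank
import Cfsg.Agent.H29.O7G2
import Cfsg.Agent.H26.O7ComB
import Cfsg.Agent.H81.O7Alt
import Cfsg.Agent.H37.O7Alt2
import Cfsg.Agent.H37.O7Fin
import Cfsg.Agent.H94.O7G23
import Cfsg.Agent.H85.O7GfU
import Cfsg.Agent.H30.O7X4
import Cfsg.Agent.H30.O7O4
import Cfsg.Agent.H86.O7Proj
import Cfsg.Agent.H28.O7D4
import Cfsg.Agent.H33.O7Ree
import Cfsg.Agent.H12.O7Hur
import Cfsg.Agent.H91.O7G2a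
import Cfsg.Agent.H32.O7G2b
import Cfsg.Agent.H94.O7Xc
import Cfsg.Agent.H60.O7L3
import Cfsg.Agent.H10.O7GfEv
import Cfsg.Agent.H47.O7GfL2
import Cfsg.Agent.H81.O7GfM
import Cfsg.Agent.H47.O7GfJ
import Cfsg.Agent.H76.O7L2b
import Cfsg.Agent.H5.O7Four
import Cfsg.Agent.H86.O7SmA
import Cfsg.Agent.H19.O7Code
import Cfsg.Agent.H77.O7Force
import Cfsg.Agent.H23.O7Tor
import Cfsg.Agent.H79.O7Split
import Cfsg.Agent.H3.O7S0
import Cfsg.Agent.H7.O7Glue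
import Cfsg.Agent.H92.O7U33
import Cfsg.Agent.H55.O7L28

/-! The pieces for `Ω₇(q)`. -/

set_option autoImplicit false

namespace Cfsg.Agent.H25.O7

universe u

theorem refStmt : RefStmt.{u} :=
  H5.O7R.ref (H49.O7B.big (H8.O7T3.t3 H80.O7.so3)) H76.O7Deg.deg H30.O7R.rk3a H21.O7Rk.rk3b
    H82.O7P.par H75.O7L.lift H12.O7A.ax (H72.O7F.fisch H60.O7Fi5.fisch5) H49.O7R.real

theorem pieces : Pieces.{u} :=
  have tor := H23.O7Tor.tor.{u}
  have code := H19.O7Code.code.{u}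
  have four := H5.O7F.four code
  have hur := H12.O7H.hur tor
  have split := H79.O7Split.split.{u}
  have s0 := H3.O7S0.s0.{u}
  have x4 := H30.X4.x4 H30.O4.o4.{u} H86.O7Proj.proj
  { rank := H70.O7R.rank
    code := code
    four := four
    force := H77.O7Force.force tor
    smallA := H86.O7SmA.smallA tor code four
    hur := hur
    split := split
    glue := H7.O7Glue.glue code s0 x4
    u33 := H92.O7.u33 code s0
    ree := H33.O7Ree.ree code split s0 x4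
    d4 := H28.O7D4.d4 code H30.O4.o4 H86.O7Proj.proj
    l2a := H30.L2a.l2a
    l2b := H76.O7L2b.l2b
    l28 := H55.O7.l28 code hur tor
    gfL3 := H60.O7L3.gfL3
    gfU3 := H31.O7U.gfU3'
    gfG2 := H29.O7G.gfG2
    gfG23 := H94.O7G.gfG23
    gfD4 := H77.O7D4.gfD4
    gfXc := H94.O7X.gfXc
    gfCom := H26.O7C.gfCom
    gfU := H85.O7U.gfU
    gfEv := H10.O7Ev.gfEv
    gfL2 := H47.O7L.gfL2
    gfM := H81.O7M.gfM
    gfJ := H47.O7J.gfJ
    gfRee := H87.O7Ree.gfRee }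

theorem pieces2 (nm : FinStmt.{u} → Nm8Stmt.{u}) : Pieces2.{u} :=
  { pieces with
    ref := refStmt
    nm8 := nm H37.O7.fin
    alt1 := H81.O7A.alt1
    alt2 := H37.O7A.alt2 H37.O7.fin H49.O7R.real
    g2b := H32.O7G.g2b H91.O7G2a.g2a }

end Cfsg.Agent.H25.O7
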