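import Cfsg.Agent.H56.SpDefs
import Cfsg.Agent.H24.CyEps

/-! Project CY, chapter SP, piece A1. -/

set_option autoImplicit false

namespace Cfsg.Agent.H25.SpA1

open Subgroup MulAction Cfsg.Agent.H11.Cy Cfsg.Agent.H56.Sp
open Cfsg.Agent.H45.Iv (Fx Sub Ms)

variable {G : Type} [Group G] {Ω : Type} [MulAction G Ω] {p : ℕ} {A : Ω → Subgroup G}

/-- common fixed points -/
def FS (Ω : Type) [MulAction G Ω] (S : Subgroup G) : Set Ω := {w | ∀ s ∈ S, s • w = w}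

theorem grow [Finite G] (Y S : Subgroup G) (hS : IsPGroup 2 S) (h : Y ≤ S)
    (hn : ∀ n ∈ S, n ∈ normalizer (Y : Set G) → n ∈ Y) : S ≤ Y := by
  have := hS.isNilpotent
  by_contra hne
  have h1 : Y.subgroupOf S < ⊤ := lt_top_iff_ne_top.2 fun e => hne (subgroupOf_eq_top.1 e)
  obtain ⟨n, h2, h3⟩ := SetLike.exists_of_lt (Group.normalizerCondition_of_isNilpotent _ h1)
  rw [← subgroupOf_normalizer_eq h] at h2
  exact h3 (hn n n.2 h2)

theorem par [Finite Ω] {H P : Subgroup G} (hP : IsPGroup 2 P) (le : P ≤ H) (y : Ω) :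
    (orbit H y).ncard ≡ (orbit H y ∩ FS Ω P).ncard [MOD 2] := by
  have := (hP.comap_subtype (K := H)).card_modEq_card_fixedPoints (orbit H y)
  rw [← Nat.card_coe_set_eq, ← Nat.card_coe_set_eq]
  convert this using 1
  refine Nat.card_congr ⟨fun w => ⟨⟨w.1, w.2.1⟩, fun s => Subtype.ext (w.2.2 _ s.2)⟩,
    fun w => ⟨w.1.1, w.1.2, fun s hs => congrArg Subtype.val (w.2 ⟨⟨s, le hs⟩, hs⟩)⟩,
    fun _ => rfl, fun _ => rfl⟩

/-- transitivity from the parity of orbits -/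
theorem trans_par [Finite Ω] (po : Odd p) (lf : LFs p A) {H : Subgroup G} {Φ : Set Ω} {a : Ω}
    (fa : ∀ g ∈ H, g • a = a) (inv : ∀ g ∈ H, ∀ w ∈ Φ, g • w ∈ Φ)
    (hF : ∀ y ∈ Φ, y ≠ a → ∀ f ∈ Fl A a y, f • a = a → f ∈ H)
    (hP : ∀ y ∈ Φ, y ≠ a → ∃ P : Subgroup G, IsPGroup 2 P ∧ P ≤ H ∧ FS Ω P = Ln A a y)
    {y y' : Ω} (hy : y ∈ Φ) (n : y ≠ a) (hy' : y' ∈ Φ) (n' : y' ≠ a) : ∃ g ∈ H, g • y = y' := by
  have na : a ∉ orbit H y := by
    rintro ⟨g, hg⟩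
    exact n (smul_left_cancel (g : G) ((show (g : G) • y = a from hg).trans (fa g g.2).symm))
  have ln : ∀ u ∈ Φ, u ≠ a → ∀ c ∈ Ln A a u, c ≠ a → ∀ c' ∈ Ln A a u, c' ≠ a →
      ∃ g ∈ H, g • c = c' := fun u hu nu c hc nc c' hc' nc' => by
    have l := lf a u nu.symm
    obtain ⟨f, hf, f1, f2⟩ := l.tr a l.mem.1 c hc a l.mem.1 c' hc' nc.symm nc'.symm
    exact ⟨f, hF u hu nu f hf f1, f2⟩
  by_contra hn
  obtain ⟨P, p1, p2, p3⟩ := hP y hy n
  obtain ⟨P', q1, q2, q3⟩ := hP y' hy' n'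
  have e1 := par p1 p2 y
  have e2 := par q1 q2 y
  have l := lf a y n.symm
  have s1 : orbit H y ∩ FS Ω P = Ln A a y \ {a} := by
    rw [p3]
    refine Set.Subset.antisymm (fun w hw => ⟨hw.2, fun e => na (e ▸ hw.1)⟩) fun w hw => ⟨?_, hw.1⟩
    obtain ⟨g, hg, e⟩ := ln y hy n y l.mem.2 n w hw.1 hw.2
    exact ⟨⟨g, hg⟩, e⟩
  have s2 : orbit H y ∩ FS Ω P' = ∅ := by
    rw [q3, Set.eq_empty_iff_forall_notMem]
    rintro w ⟨⟨k, hk⟩, hw⟩
    obtain ⟨g, hg, e⟩ := ln y' hy' n' w hw (fun e => na (e ▸ ⟨k, hk⟩)) y'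
      (lf a y' n'.symm).mem.2 n'
    exact hn ⟨g * k, mul_mem hg k.2, by rw [mul_smul, show (k : G) • y = w from hk, e]⟩
  rw [s1, Set.ncard_sdiff_singleton_of_mem l.mem.1, l.ln] at e1
  rw [s2, Set.ncard_empty] at e2
  obtain ⟨j, rfl⟩ := po
  unfold Nat.ModEq at e1 e2
  omega

theorem kl_cj (h : St p A) (g : G) (x y : Ω) : H83.cj g (Kl A x y) = Kl A (g • x) (g • y) := by
  rw [H83.cj_centralizer, H83.cj, H24.CyEps.mapF h]

/-- the admissible subgroups -/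
def Ad (A : Ω → Subgroup G) (S : Subgroup G) : Prop := IsPGroup 2 S ∧ ∃ x y, x ≠ y ∧
  S ≤ Kl A x y ∧ (∃ z ∈ S, IsZ A x y z) ∧ FS Ω S ≠ Ln A x y

theorem a1 : A1Stmt := by
  intro G _ _ Ω _ _ p A h p2 ep lf hf
  have ne : {S : Subgroup G | Ad A S}.Nonempty := by
    by_contra c
    refine hf fun x y n z hz => ?_
    by_contra e
    refine c ⟨zpowers z, H83.isPGroup_iff.2 ?_, x, y, n, zpowers_le.2 ((lf x y n).cen z hz),
      ⟨z, mem_zpowers z, hz⟩, fun e' => e ?_⟩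
    · rintro _ ⟨i, rfl⟩
      exact ⟨1, by rw [pow_one, ← zpow_natCast, ← zpow_mul, mul_comm, zpow_mul, zpow_natCast,
        pow_two, hz.2.2, one_zpow]⟩
    · rw [← e']
      refine Set.ext fun w => ⟨fun hw s hs => ?_, fun hw => hw z (mem_zpowers z)⟩
      exact (zpowers_le (H := stabilizer G w)).2 hw hs
  obtain ⟨S, ⟨S2, x, y, n, SK, ⟨z, zS, hz⟩, nl⟩, mx⟩ := (Set.toFinite _).exists_maximal ne
  have hx : x ∈ FS Ω S := fun s hs => (ep.kfix x y n s).1 (SK hs) x (lf x y n).mem.1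
  have hy : y ∈ FS Ω S := fun s hs => (ep.kfix x y n s).1 (SK hs) y (lf x y n).mem.2
  have cen : ∀ w ∈ FS Ω S, ∀ s ∈ S, s ∈ centralizer (A w : Set G) := fun w hw s hs => by
    have c : s ∈ centralizer (A x : Set G) := mem_centralizer_iff.2 fun a ha =>
      mem_centralizer_iff.1 (SK hs) a (mem_sup_left ha)
    by_cases e : x = w
    · exact e ▸ c
    · exact mem_centralizer_iff.2 fun a ha =>
        mem_centralizer_iff.1 (ep.eps x w e s ⟨hx s hs, hw s hs⟩ c) a (mem_sup_right ha)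
  have K : ∀ a ∈ FS Ω S, ∀ b ∈ FS Ω S, a ≠ b → S ≤ Kl A a b := fun a ha b hb e s hs =>
    ep.eps a b e s ⟨ha s hs, hb s hs⟩ (cen a ha s hs)
  have sub : Sub A (FS Ω S) := fun a ha b hb e w hw s hs =>
    (ep.kfix a b e s).1 (K a ha b hb e hs) w hw
  have FN : ∀ a ∈ FS Ω S, ∀ b ∈ FS Ω S, a ≠ b → Fl A a b ≤ normalizer (S : Set G) :=
    fun a ha b hb e f hf => centralizer_le_normalizer _ (mem_centralizer_iff.2 fun s hs =>
      (mem_centralizer_iff.1 (K a ha b hb e hs) f hf).symm)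
  have inv : ∀ g ∈ normalizer (S : Set G), ∀ w ∈ FS Ω S, g • w ∈ FS Ω S := fun g hg w hw s hs => by
    have := hw _ ((mem_normalizer_iff.1 (inv_mem hg) s).1 hs)
    rw [mul_smul, mul_smul, inv_inv, inv_smul_eq_iff] at this
    exact this
  have tr : Tr2 (normalizer (S : Set G)) (FS Ω S) := by
    by_cases sy : ∃ a ∈ FS Ω S, ∃ b ∈ FS Ω S, a ≠ b ∧ H83.IsSylowIn 2 S (Kl A a b)
    · obtain ⟨a, ha, b, hb, e, sy⟩ := sy
      have w : ∀ a' ∈ FS Ω S, ∀ b' ∈ FS Ω S, a' ≠ b' →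
          ∃ g ∈ normalizer (S : Set G), g • a = a' ∧ g • b = b' := fun a' ha' b' hb' e' => by
        obtain ⟨g, -, rfl, rfl⟩ := h.two a trivial b trivial a' trivial b' trivial e e'
        have s1 := sy.cj g
        rw [kl_cj h] at s1
        obtain ⟨k, hk, ek⟩ := s1.exists_conj
          (s1.of_card_ge (K _ ha' _ hb' e') S2 (H83.card_cj g S).le)
        rw [← H83.cj_mul, H83.cj_eq_self_iff] at ek
        exact ⟨k * g, ek, by rw [mul_smul, (ep.kfix _ _ e' k).1 hk _ (lf _ _ e').mem.1],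
          by rw [mul_smul, (ep.kfix _ _ e' k).1 hk _ (lf _ _ e').mem.2]⟩
      intro u hu v hv u' hu' v' hv' e1 e2
      obtain ⟨g, hg, rfl, rfl⟩ := w u hu v hv e1
      obtain ⟨g', hg', rfl, rfl⟩ := w u' hu' v' hv' e2
      exact ⟨g' * g⁻¹, mul_mem hg' (inv_mem hg), by simp [mul_smul], by simp [mul_smul]⟩
    · have P : ∀ a ∈ FS Ω S, ∀ b ∈ FS Ω S, b ≠ a → ∃ P : Subgroup G, IsPGroup 2 P ∧
          P ≤ normalizer (S : Set G) ⊓ stabilizer G a ∧ FS Ω P = Ln A a b := by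
        intro a ha b hb e
        have l := lf a b e.symm
        obtain ⟨z', hz'⟩ := l.ex
        obtain ⟨P, p1, p3, p4, p5, p6, p7⟩ : ∃ P : Subgroup G, IsPGroup 2 P ∧
            P ≤ normalizer (S : Set G) ∧ P ≤ Kl A a b ∧ z' ∈ P ∧ S ≤ P ∧ ¬ P ≤ S := by
          obtain ⟨T, sT, leT⟩ := H83.exists_isSylowIn_ge (K a ha b hb e.symm) S2
          have zT : z' ∈ T := sT.mem_of_norm (l.cen z' hz') (k := 1)
            (by rw [pow_one, pow_two, hz'.2.2])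
            (centralizer_le_normalizer _ (mem_centralizer_iff.2 fun s hs =>
              (mem_centralizer_iff.1 (sT.le hs) z' hz'.1).symm))
          refine ⟨T ⊓ normalizer (S : Set G), sT.isPGroup.to_inf_left, inf_le_right,
            inf_le_left.trans sT.le, ⟨zT, FN a ha b hb e.symm hz'.1⟩, le_inf leT le_normalizer,
            fun c => sy ⟨a, ha, b, hb, e.symm, ?_⟩⟩
          rwa [le_antisymm leT (grow S T sT.isPGroup leT fun m m1 m2 => c ⟨m1, m2⟩)]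
        refine ⟨P, p1, le_inf p3 fun s hs => (ep.kfix a b e.symm s).1 (p4 hs) a l.mem.1, ?_⟩
        by_contra c
        exact p7 (mx ⟨p1, a, b, e.symm, p4, ⟨z', p5, hz'⟩, c⟩ p6)
      intro u hu v hv u' hu' v' hv' e1 e2
      obtain ⟨g, hg, g1⟩ : ∃ g ∈ normalizer (S : Set G), g • u = u' := by
        by_cases e : u = u'
        · exact ⟨1, one_mem _, by rw [one_smul, e]⟩
        · have l := lf u u' e
          obtain ⟨f, hf, f1, -⟩ := l.tr u l.mem.1 u' l.mem.2 u' l.mem.2 u l.mem.1 e (Ne.symm e)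
          exact ⟨f, FN u hu u' hu' e hf, f1⟩
      obtain ⟨k, hk, k1⟩ := trans_par (h.pp.odd_of_ne_two p2) lf
        (H := normalizer (S : Set G) ⊓ stabilizer G u') (Φ := FS Ω S) (a := u')
        (fun g hg => hg.2) (fun g hg => inv g hg.1)
        (fun c hc e f hf f1 => ⟨FN u' hu' c hc e.symm hf, f1⟩) (P u' hu') (inv g hg v hv)
        (fun e => e1 (smul_left_cancel g (g1.trans e.symm))) hv' e2.symm
      exact ⟨k * g, mul_mem hk.1 hg, by rw [mul_smul, g1]; exact hk.2, by rw [mul_smul, k1]⟩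
  refine ⟨S, FS Ω S, S2, fun e => hz.2.1 (by rwa [e, mem_bot] at zS), fun _ => Iff.rfl, sub,
    ⟨x, hx, y, hy, n⟩, fun a ha b hb e c => nl ?_, fun w hw a ha => mem_centralizer_iff.2
      fun s hs => (mem_centralizer_iff.1 (cen w hw s hs) a ha).symm, tr,
    fun a ha b hb e z' hz' => ?_⟩
  · have := ep.span a b e x (c ▸ hx) y (c ▸ hy) n
    rw [← c, Ln, Ln, this]
  · obtain ⟨g, hg, rfl, rfl⟩ := tr x hx y hy a ha b hb n e
    rw [(lf _ _ e).uq z' (g * z * g⁻¹) hz' ⟨H24.CyEps.mapF h g x y ▸ ⟨z, hz.1, rfl⟩,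
      fun c => hz.2.1 (by simpa using c), by
        calc _ = g * (z * z) * g⁻¹ := by group
          _ = 1 := by rw [hz.2.2]; group⟩]
    exact (mem_normalizer_iff.1 hg z).1 zS

end Cfsg.Agent.H25.SpA1
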