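import Mathlib
import Cfsg.Agent.H42.VpDefs
import Cfsg.Agent.H14.ExtraChar
import Cfsg.Agent.S4558

/-! Three small pieces about vanishing elements. -/

set_option autoImplicit false

namespace Cfsg.Agent.H25.VpZ0

open Subgroup Cfsg Cfsg.Agent.H42.Vp
open scoped commutatorElement

universe u

theorem z0 : Z0Stmt.{u} := by
  intro G _ _ x g z hz hz1 h
  have : ∃ χ, IsIrrCharacter G χ ∧ z ∉ H11.charKer χ := by
    by_contra hc
    push Not at hc
    exact hz1 (H11.eq_one_of_forall_mem_charKer hc)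
  obtain ⟨χ, hχ, h1⟩ := this
  have h2 : ⁅g, x⁆ = z := by
    rw [commutatorElement_def, h, mem_center_iff.1 hz x]
    group
  refine ⟨χ, hχ, H14.apply_eq_zero_of_commutator_center hχ (y := g) ?_ ?_⟩
  · rw [h2]; exact H11.center_le_charCenter hχ hz
  · rw [h2]; exact h1

theorem d : DStmt.{u} := by
  intro G _ _ p hp χ g m hg h0
  haveI : Fact p.Prime := ⟨hp⟩
  obtain ⟨n, ρ, -, hρ⟩ := χ.2
  exact Cfsg.Agent.S4558.result p (χ : G → ℂ) ⟨n, ρ, hρ⟩ g ⟨m, hg⟩ h0

end Cfsg.Agent.H25.VpZ0
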